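import Mathlib

/-! Groups whose order is bounded by the `8/3`-th power of its `p`-part. -/

set_option autoImplicit false

namespace Cfsg.Agent.OrdB

/-- The cube of `n` is smaller than the eighth power of a power of `p` dividing `n`. -/
def Big (p n : ℕ) : Prop := ∃ a, p ^ a ∣ n ∧ n ^ 3 < p ^ (8 * a)

theorem Big.cube {p n : ℕ} (hp : p.Prime) (hn : n ≠ 0) (h : Big p n) : n ^ 3 < p ^ (8 * n.factorization p) := by
  obtain ⟨a, h1, h2⟩ := h
  exact h2.trans_le (Nat.pow_le_pow_right hp.pos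
    (Nat.mul_le_mul_left _ ((hp.pow_dvd_iff_le_factorization hn).1 h1)))

theorem Big.lt {p n : ℕ} (hp : p.Prime) (hn : n ≠ 0) (h : Big p n) : n < p ^ (3 * n.factorization p) := by
  refine lt_of_pow_lt_pow_left₀ 3 (Nat.zero_le _) ((h.cube hp hn).trans_le ?_)
  rw [← pow_mul]
  exact Nat.pow_le_pow_right hp.pos (by omega)

theorem big_of {p q n N : ℕ} (hq : ∃ f, q = p ^ f) (h1 : q ^ N ∣ n) (h2 : n ^ 3 < q ^ (8 * N)) : Big p n := by
  obtain ⟨f, rfl⟩ := hq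
  exact ⟨f * N, by rwa [pow_mul], by rwa [mul_left_comm, pow_mul]⟩

theorem big_of_lt {p q n N D : ℕ} (hq : ∃ f, q = p ^ f) (h0 : 0 < q) (h1 : q ^ N ∣ n) (h2 : n < q ^ D)
    (h3 : 3 * D ≤ 8 * N) : Big p n :=
  big_of hq h1 ((Nat.pow_lt_pow_left h2 (by decide)).trans_le (by
    rw [← pow_mul]; exact Nat.pow_le_pow_right h0 (by omega)))

theorem Big.of_mul {p n c : ℕ} (hp : p.Prime) (hc : ¬ p ∣ c) (h : Big p (n * c)) : Big p n := by
  obtain ⟨a, h1, h2⟩ := h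
  refine ⟨a, ((hp.coprime_iff_not_dvd.2 hc).pow_left a).dvd_of_dvd_mul_right h1, lt_of_le_of_lt ?_ h2⟩
  exact Nat.pow_le_pow_left (Nat.le_mul_of_pos_right _ (Nat.pos_of_ne_zero fun e => hc (by simp [e]))) _

variable {G : Type*} [Group G]

theorem Big.quot {p : ℕ} (hp : p.Prime) {Z : Subgroup G} (hZ : ¬ p ∣ Nat.card Z) (h : Big p (Nat.card G)) :
    Big p (Nat.card (G ⧸ Z)) := by
  rw [Subgroup.card_eq_card_quotient_mul_card_subgroup Z] at h
  exact h.of_mul hp hZ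

theorem big_of_subgroup [Finite G] {p : ℕ} [Fact p.Prime] {U : Subgroup G} (hU : IsPGroup p U)
    (h : Nat.card G ^ 3 < Nat.card U ^ 8) : Big p (Nat.card G) := by
  obtain ⟨a, ha⟩ := hU.exists_card_eq
  exact ⟨a, ha ▸ U.card_subgroup_dvd_card, by rwa [mul_comm, pow_mul, ← ha]⟩

theorem not_dvd_card_of {p : ℕ} (hp : p.Prime) [Finite G] (h : ∀ z : G, z ^ p = 1 → z = 1) : ¬ p ∣ Nat.card G := by
  intro hd
  have := Fact.mk hp
  obtain ⟨z, hz⟩ := exists_prime_orderOf_dvd_card' p hd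
  have h1 := h z (hz ▸ pow_orderOf_eq_one z)
  rw [h1, orderOf_one] at hz
  exact hp.one_lt.ne hz

theorem exists_card_eq_pow (F : Type*) [Field F] [Finite F] (p : ℕ) [CharP F p] : ∃ f, Nat.card F = p ^ f := by
  have := Fintype.ofFinite F
  obtain ⟨n, -, h⟩ := FiniteField.card F p
  exact ⟨n, by rw [Nat.card_eq_fintype_card, h]⟩

theorem prod_lt {q n : ℕ} (hq : 0 < q) (hn : 0 < n) (e : ℕ → ℕ) :
    ∏ i ∈ Finset.range n, (q ^ e i - 1) < q ^ ∑ i ∈ Finset.range n, e i := by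
  obtain ⟨n, rfl⟩ := Nat.exists_eq_succ_of_ne_zero hn.ne'
  rw [Finset.prod_range_succ, Finset.sum_range_succ, pow_add, ← Finset.prod_pow_eq_pow_sum]
  exact Nat.mul_lt_mul_of_le_of_lt (Finset.prod_le_prod' fun i _ => Nat.sub_le _ _)
    (Nat.sub_lt (pow_pos hq _) one_pos) (Finset.prod_pos fun i _ => pow_pos hq _)

end Cfsg.Agent.OrdB
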