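import Cfsg.Agent.Lib.Ord.Basic
import Cfsg.Agent.Lib.Tw.InstF4
import Cfsg.Agent.Lib.Chev.Ree

/-! The order of a twisted group compared with the order of its unipotent subgroup. -/

set_option autoImplicit false

namespace Cfsg.Agent.OrdB

open Cfsg.Lie Cfsg.Agent.Chev Cfsg.Agent.Chev.RSys Cfsg.Agent.Chev.PreRGD

theorem filt_card_ge {Γ K : Type*} [Group Γ] [Finite Γ] [Field K] (S : Filt Γ K) (A : ℕ → Set K)
    (hA : ∀ i < S.m, ∀ t ∈ A i, ∃ g ∈ S.F i, S.c i g = t) :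
    ∏ i ∈ Finset.range S.m, (A i).ncard ≤ Nat.card (S.F 0) := by
  have key : ∀ k ≤ S.m, (∏ i ∈ Finset.range k, (A i).ncard) * Nat.card (S.F k) ≤ Nat.card (S.F 0) := fun k hk => by
    induction k with
    | zero => simp
    | succ k ih =>
      refine le_trans ?_ (ih (by omega))
      rw [Finset.prod_range_succ, mul_assoc]
      refine Nat.mul_le_mul_left _ ?_
      choose g h1 h2 using hA k hk
      rw [← Nat.card_coe_set_eq, ← Nat.card_prod]
      refine Nat.card_le_card_of_injective (fun y => ⟨g y.1.1 y.1.2 * y.2, mul_mem (h1 _ _) (S.anti k y.2.2)⟩) ?_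
      rintro ⟨⟨t, ht⟩, b⟩ ⟨⟨t', ht'⟩, b'⟩ e
      have h3 : g t ht * b = g t' ht' * b' := congrArg Subtype.val e
      obtain rfl : t = t' := by
        rw [← h2 t ht, ← h2 t' ht', ← Filt.c_mul_low hk (h1 t ht) b.2, h3, Filt.c_mul_low hk (h1 t' ht') b'.2]
      exact Prod.ext rfl (Subtype.ext (mul_left_cancel h3))
  simpa [S.top] using key S.m le_rfl

theorem ncard_pow_eq_self {K : Type*} [Field K] [Finite K] {q k : ℕ} (hK : Nat.card K = q ^ k) (hq : 1 < q) :
    {t : K | t ^ q = t}.ncard = q := by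
  have h1 := IsCyclic.card_powMonoidHom_ker Kˣ (q - 1)
  rw [Nat.card_units, hK, Nat.gcd_eq_right (by simpa using Nat.sub_dvd_pow_sub_pow q 1 k)] at h1
  have h2 : {t : K | t ^ q = t} = insert 0 (Units.val '' ((powMonoidHom (q - 1) : Kˣ →* Kˣ).ker : Set Kˣ)) := by
    ext t
    obtain ⟨q, rfl⟩ := Nat.exists_eq_add_of_le' hq.le
    simp only [Set.mem_ofPred_eq, Nat.add_sub_cancel, Set.mem_insert_iff, Set.mem_image, SetLike.mem_coe,
      MonoidHom.mem_ker, powMonoidHom_apply]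
    constructor
    · intro h
      by_cases h0 : t = 0
      · exact Or.inl h0
      · exact Or.inr ⟨Units.mk0 t h0, Units.ext (mul_right_cancel₀ h0 (by simpa [pow_succ] using h)), rfl⟩
    · rintro (rfl | ⟨u, hu, rfl⟩)
      · simp
      · rw [pow_succ, ← Units.val_pow_eq_pow_val, hu]; simp
  rw [h2, Set.ncard_insert_of_notMem (by rintro ⟨u, -, hu⟩; exact u.ne_zero hu),
    Set.ncard_image_of_injective _ Units.val_injective, ← Nat.card_coe_set_eq, SetLike.coe_sort_coe, h1]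
  omega

section

variable {D : ChevalleyDatum} {T : TwData} [Tab D] {K : Type*} [Field K] {G : Type*} [Group G] {x : ℕ → K → G}
  {φ : K →+* K} {σ : G →* G} (h : IsTw D T x φ σ) {Γ : Type*} [Group Γ] {f : Γ →* G} (E : h.fold.Emb f)
include E

theorem tw_card_le [Finite Γ] : Nat.card Γ ≤ Nat.card (h.chv.rel.pre.U.comap f) * Nat.card (h.chv.rel.pre.N.comap f) *
    Nat.card (h.chv.rel.pre.U.comap f) := by
  rw [← Nat.card_prod, ← Nat.card_prod]
  refine Nat.card_le_card_of_surjective (fun y => y.1.1.1 * y.1.2.1 * y.2.1) fun g => ?_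
  obtain ⟨w, -, m, u, v, h1, h2, h3, rfl⟩ := E.bruhat g
  exact ⟨((⟨u, h2⟩, ⟨m, h1.mem_N⟩), ⟨v, h.chv.rel.pre.Uw_le_U w h3⟩), rfl⟩

theorem tw_card_N_le [Finite K] (hG : GS D x = ⊤) (hZ : Subgroup.center G = ⊥) {A B : Type*} [Fintype A]
    {rep : A → Fin D.rank} (hrep : ∀ i, ∃ a, i ∈ h.fold.orb (rep a)) (S : Finset B) (g : B → A → Fin D.nroots)
    (hS : ∀ w ∈ h.fold.WF, ∃ b ∈ S, ∀ a, g b a = w ((rs D).simple (rep a))) (C : A → Set K)
    (hC : ∀ a (s : Fin D.nroots) c, c ≠ 0 → (T.π (D.simple (rep a)) = D.simple (rep a) → T.π s = s ∧ σ (x s c) = x s c) →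
      c ∈ C a) : Nat.card (h.chv.rel.pre.N.comap f) ≤ S.card * ∏ a, (C a).ncard := by
  have h0 : ∀ i, σ (x ((rs D).simple i : Fin D.nroots) 1) = x ((rs D).simple (h.tw.νp i) : Fin D.nroots) 1 := fun i => by
    rw [h.σ_x, h.tw.ρ_simple, map_one, rs_simple_val i, h.tw.ε_simple i.2, Int.cast_one, mul_one]
  have key : ∀ m : h.chv.rel.pre.N.comap f, ∃ y : S × ∀ a, C a, ∀ a,
      f m * x ((rs D).simple (rep a) : Fin D.nroots) 1 * (f m)⁻¹ = x (g y.1 a) (y.2 a) := fun m => by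
    obtain ⟨w, hw, h1⟩ := E.exists_over_of_mem_N m.2
    obtain ⟨b, hb, h2⟩ := hS w hw
    choose c h3 h4 using fun a => h.chv.rel.over_conj h1 ((rs D).simple (rep a))
    refine ⟨(⟨b, hb⟩, fun a => ⟨c a, hC a (w ((rs D).simple (rep a))) _ (h3 a) fun e => ?_⟩), fun a => by
      rw [h2, h4, mul_one]⟩
    have h5 : h.tw.ρ ((rs D).simple (rep a)) = (rs D).simple (rep a) := Fin.ext e
    refine ⟨congrArg Fin.val (((Fold.mem_WF.mp hw).2 _).trans (congrArg w h5)), ?_⟩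
    have h6 : σ (f m) = f m := E.fix m
    rw [← mul_one (c a), ← h4, map_mul, map_mul, map_inv, h6, h0, ← h.tw.ρ_simple, h5]
  choose y hy using key
  rw [← Nat.card_eq_finsetCard, Finset.prod_congr rfl fun a _ => (Nat.card_coe_set_eq (C a)).symm, ← Nat.card_pi,
    ← Nat.card_prod]
  refine Nat.card_le_card_of_injective y fun m m' e => ?_
  have h1 : ∀ i, f (m'⁻¹ * m).1 * x ((rs D).simple i : Fin D.nroots) 1 * (f (m'⁻¹ * m).1)⁻¹ =
      x ((rs D).simple i : Fin D.nroots) 1 := fun i => by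
    obtain ⟨a, ha⟩ := hrep i
    refine Fold.orb_induction (C := fun i => f (m'⁻¹ * m).1 * x ((rs D).simple i : Fin D.nroots) 1 *
      (f (m'⁻¹ * m).1)⁻¹ = x ((rs D).simple i : Fin D.nroots) 1) ?_ (fun j hj => ?_) ha
    · have := congrArg (fun z => (f m')⁻¹ * z * f m') ((hy m a).trans (e ▸ (hy m' a).symm))
      simpa [mul_assoc] using this
    · have h6 : σ (f (m'⁻¹ * m).1) = _ := E.fix _
      have := congrArg σ hj
      rwa [map_mul, map_mul, map_inv, h6, h0] at this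
  obtain ⟨w, hw⟩ := exists_over (m'⁻¹ * m).2
  obtain rfl : w = 1 := eq_one_of_forall_pos hw.1 fun i => by
    have h2 : (rs D).simple i = w ((rs D).simple i) := h.chv.nondeg.eq_of_mem_X_X (x_mem_XS _ 1)
      (h1 i ▸ hw.conj_X (x_mem_XS _ 1)) fun e => one_ne_zero (h.chv.eq_zero e)
    exact h2 ▸ (rs D).isPos_simple i
  obtain ⟨a, ha⟩ := h.chv.rel.r7.exists_chi h.chv.rel (over_one_iff.mp hw)
  have h2 : ∀ i, chi D a ((rs D).simple i) = 1 := fun i =>
    Units.ext (by simpa using h.chv.x_injective _ ((ha _ 1).symm.trans (h1 i)))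
  have h3 := mem_center_of_conj hG fun s u => (ha s u).trans (by rw [chi_eq_prod]; simp [h2])
  rw [hZ, Subgroup.mem_bot, ← map_one f] at h3
  exact (inv_mul_eq_one.mp (Subtype.ext (E.inj h3))).symm

theorem big_tw [Finite K] [Finite Γ] (p : ℕ) [Fact p.Prime] [CharP K p] {L : LevD} (hL : LevOK D T L) {n u : ℕ}
    (hn : Nat.card (h.chv.rel.pre.N.comap f) ≤ n) (hu : u ≤ Nat.card ((h.filt hL E).F 0)) (h1 : n ^ 3 < u ^ 2) :
    Big p (Nat.card Γ) := by
  rw [h.filt_F_zero] at hu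
  refine big_of_subgroup ((h.chv.isPGroup_US p halfSpace_pos closed_pos).comap_of_injective f E.inj) ?_
  have h2 := Nat.card_pos (α := h.chv.rel.pre.U.comap f)
  calc _ ≤ _ := Nat.pow_le_pow_left (tw_card_le h E) 3
    _ = Nat.card (h.chv.rel.pre.U.comap f) ^ 6 * Nat.card (h.chv.rel.pre.N.comap f) ^ 3 := by ring
    _ < Nat.card (h.chv.rel.pre.U.comap f) ^ 6 * Nat.card (h.chv.rel.pre.U.comap f) ^ 2 :=
      Nat.mul_lt_mul_of_pos_left (((Nat.pow_le_pow_left hn 3).trans_lt h1).trans_le (Nat.pow_le_pow_left hu 2))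
        (by positivity)
    _ = _ := by rw [← pow_add]; rfl

theorem big_per [Finite K] (hG : GS D x = ⊤) (hZ : Subgroup.center G = ⊥) (p : ℕ) [Fact p.Prime] [CharP K p]
    {k q : ℕ} (P : Per D T k) (hφ : ∀ t, φ t = t ^ q) (hφk : ∀ t, φ^[k] t = t) (hK : Nat.card K = q ^ k) (hq : 1 < q)
    {L : LevD} (hL : LevOK D T L) {A B : Type*} [Fintype A] {rep : A → Fin D.rank}
    (hrep : ∀ i, ∃ a, i ∈ h.fold.orb (rep a)) (S : Finset B) (g : B → A → Fin D.nroots)
    (hS : ∀ w ∈ h.fold.WF, ∃ b ∈ S, ∀ a, g b a = w ((rs D).simple (rep a)))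
    (h1 : (S.card * ∏ a, (q ^ kr T k (D.simple (rep a)) - 1)) ^ 3 <
      (q ^ ∑ i ∈ Finset.range L.m, kr T k (L.rep i)) ^ 2) : Big p (Nat.card Γ) := by
  have := h.finite_of_emb hG E
  have h2 : ∀ r, (Fx T k φ r : Set K).ncard = q ^ kr T k r := fun r => by
    by_cases e : T.π r = r
    · rw [kr_fix e, pow_one, ← ncard_pow_eq_self hK hq]
      exact congrArg _ (Set.ext fun t => by rw [SetLike.mem_coe, mem_Fx, kr_fix e, Set.mem_ofPred_eq, ← hφ]; rfl)
    · rw [kr_ne e, ← hK, ← Set.ncard_univ]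
      exact congrArg _ (Set.eq_univ_of_forall fun t => by rw [SetLike.mem_coe, mem_Fx, kr_ne e]; exact hφk t)
  refine big_tw h E p hL ((tw_card_N_le h E hG hZ hrep S g hS (fun a => Fx T k φ (D.simple (rep a)) \ {0})
    fun a s c h0 hc => ⟨?_, h0⟩).trans_eq ?_) ((filt_card_ge _ (fun i => Fx T k φ (L.rep i)) fun i hi t ht =>
      ⟨_, h.filt_Y' P E hL hi ht⟩).trans_eq' ?_) h1
  · by_cases e : T.π (D.simple (rep a)) = D.simple (rep a)
    · have := (h.fix_iff P s c).mp (by rw [kr_fix (hc e).1]; exact (hc e).2)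
      rw [mem_Fx, kr_fix (hc e).1] at this
      rwa [SetLike.mem_coe, mem_Fx, kr_fix e]
    · rw [SetLike.mem_coe, mem_Fx, kr_ne e]; exact hφk c
  · exact congrArg _ (Finset.prod_congr rfl fun a _ => by rw [Set.ncard_sdiff_singleton_of_mem (zero_mem _), h2])
  · rw [← Finset.prod_pow_eq_pow_sum]
    exact Finset.prod_congr rfl fun i _ => h2 _

omit E in
theorem WF_fix_iff {w : Equiv.Perm (Fin D.nroots)} (hw : w ∈ h.fold.WF) (r : Fin D.nroots) :
    T.π (w r) = w r ↔ T.π r = r := by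
  have h1 : ∀ r : Fin D.nroots, T.π r = r ↔ h.fold.ρ r = r := fun r => (Fin.ext_iff (a := h.fold.ρ r)).symm
  rw [h1, h1, (Fold.mem_WF.mp hw).2, w.apply_eq_iff_eq]

end

/-- The roots which are moved or fixed like a given root. -/
def sameE6 (a : Fin 4) : Finset (Fin chevE6.nroots) := Finset.univ.filter
  fun s : Fin chevE6.nroots => twE6.π s = s ↔ twE6.π (chevE6.simple (repE6 a)) = chevE6.simple (repE6 a)

set_option maxRecDepth 100000 in
theorem card_sameE6 : ∏ a, (sameE6 a).card = 1327104 := by decide +kernel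

theorem mem_sameE6 {a : Fin 4} {s : Fin chevE6.nroots} :
    s ∈ sameE6 a ↔ (twE6.π s = s ↔ twE6.π (chevE6.simple (repE6 a)) = chevE6.simple (repE6 a)) := by
  rw [sameE6, Finset.mem_filter, and_iff_right (Finset.mem_univ _)]

theorem num_E6 {q : ℕ} (hq : 2 ≤ q) : (1327104 * ∏ a, (q ^ kr twE6 2 (chevE6.simple (repE6 a)) - 1)) ^ 3 <
    (q ^ ∑ i ∈ Finset.range levE6.m, kr twE6 2 (levE6.rep i)) ^ 2 := by
  rw [show ∑ i ∈ Finset.range levE6.m, kr twE6 2 (levE6.rep i) = 36 by decide +kernel, Fin.prod_univ_four,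
    show kr twE6 2 (chevE6.simple (repE6 0)) = 2 by decide +kernel,
    show kr twE6 2 (chevE6.simple (repE6 1)) = 2 by decide +kernel,
    show kr twE6 2 (chevE6.simple (repE6 2)) = 1 by decide +kernel,
    show kr twE6 2 (chevE6.simple (repE6 3)) = 1 by decide +kernel, ← pow_mul, show 36 * 2 = 24 * 3 from rfl, pow_mul]
  refine Nat.pow_lt_pow_left ?_ (by decide)
  rcases hq.eq_or_lt with rfl | h3
  · decide
  · calc _ ≤ 1327104 * (q ^ 2 * q ^ 2 * q ^ 1 * q ^ 1) := by gcongr <;> exact Nat.sub_le _ _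
      _ < 3 ^ 18 * (q ^ 2 * q ^ 2 * q ^ 1 * q ^ 1) := Nat.mul_lt_mul_of_pos_right (by decide) (by positivity)
      _ ≤ q ^ 18 * (q ^ 2 * q ^ 2 * q ^ 1 * q ^ 1) := by gcongr; exact h3
      _ = _ := by ring

theorem big_2E6 {K : Type} [Field K] [Fintype K] {p q : ℕ} (hp : p.Prime) [CharP K p] (hq : IsPrimePow q)
    (hK : Fintype.card K = q ^ 2) : Big p (Nat.card (twistedE6 K q)) := by
  obtain ⟨-, -, -, -, φ, hφ, hφk⟩ := exists_frob hq hK
  have := Fact.mk hp
  let h := isTw_adj (twOK_E6 K) φ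
  refine big_per h (emb_twistedE6 φ hφ hφk) (GS_xG chevE6 K) ChevM.center_eq_bot p per_E6 hφ hφk
    (Nat.card_eq_fintype_card.trans hK) hq.one_lt levOK_E6 h.hrep_E6 (Fintype.piFinset sameE6) id
    (fun w hw => ⟨fun a => w ((rs chevE6).simple (repE6 a)), by
      rw [Fintype.mem_piFinset]
      intro a
      rw [mem_sameE6]
      exact WF_fix_iff h hw ((rs chevE6).simple (repE6 a)), fun _ => rfl⟩) ?_
  rw [Fintype.card_piFinset, card_sameE6]
  exact num_E6 hq.two_le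

theorem big_3D4 {K : Type} [Field K] [Fintype K] {p q : ℕ} (hp : p.Prime) [CharP K p] (hq : IsPrimePow q)
    (hK : Fintype.card K = q ^ 3) : Big p (Nat.card (twistedD4 K q)) := by
  obtain ⟨-, -, -, -, φ, hφ, hφk⟩ := exists_frob hq hK
  have := Fact.mk hp
  let h := isTw_adj (twOK_D4a K) φ
  refine big_per h (emb_twistedD4 φ hφ hφk) (GS_xG chevD4 K) ChevM.center_eq_bot p per_D4 hφ hφk
    (Nat.card_eq_fintype_card.trans hK) hq.one_lt levOK_D4 h.hrep_D4 (Finset.univ.filter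
      fun s : Fin chevD4.nroots × Fin chevD4.nroots => twD4a.π s.1 ≠ s.1 ∧ twD4a.π s.2 = s.2 ∧
        chevD4.pairing s.1 s.2 = -1) (fun s => ![s.1, s.2])
    (fun w hw => ⟨(w ((rs chevD4).simple (repD4 0)), w ((rs chevD4).simple (repD4 1))), Finset.mem_filter.mpr
      ⟨Finset.mem_univ _, mt (WF_fix_iff h hw _).mp (by decide +kernel), (WF_fix_iff h hw _).mpr (by decide +kernel), by
        rw [← rs_pair, Aut.pair_apply (Fold.mem_Aut hw), rs_pair]; decide +kernel⟩,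
      Fin.forall_fin_two.mpr ⟨rfl, rfl⟩⟩) ?_
  rw [show (Finset.univ.filter fun s : Fin chevD4.nroots × Fin chevD4.nroots => twD4a.π s.1 ≠ s.1 ∧ twD4a.π s.2 = s.2 ∧
        chevD4.pairing s.1 s.2 = -1).card = 36 by decide +kernel,
    show ∑ i ∈ Finset.range levD4.m, kr twD4a 3 (levD4.rep i) = 12 by decide +kernel, Fin.prod_univ_two,
    show kr twD4a 3 (chevD4.simple (repD4 0)) = 3 by decide +kernel,
    show kr twD4a 3 (chevD4.simple (repD4 1)) = 1 by decide +kernel, ← pow_mul, show 12 * 2 = 8 * 3 from rfl, pow_mul]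
  refine Nat.pow_lt_pow_left ?_ (by decide)
  rcases hq.two_le.eq_or_lt with rfl | h3
  · decide
  · calc _ ≤ 36 * (q ^ 3 * q ^ 1) := by gcongr <;> exact Nat.sub_le _ _
      _ < 3 ^ 4 * (q ^ 3 * q ^ 1) := Nat.mul_lt_mul_of_pos_right (by decide) (by positivity)
      _ ≤ q ^ 4 * (q ^ 3 * q ^ 1) := by gcongr; exact h3
      _ = _ := by ring

section F4

variable {K : Type*} [Field K] [Finite K] [CharP K 2] {G : Type*} [Group G] {x : ℕ → K → G} {φ : K →+* K} {σ : G →* G}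
  (h : IsTw chevF4 twF4 x φ σ) (hφ2 : ∀ t, φ (φ t) ^ 2 = t) {Γ : Type*} [Group Γ] {f : Γ →* G} (E : h.fold.Emb f)
include hφ2

theorem class_surj {j i a d : ℕ} (hj : j < 12) (hi : i < 12)
    (h1 : (allL [(a, levF4.rep j, 2), (levF4.rep j, a, 1), (levF4.rep i, d, 2), (d, levF4.rep i, 1)] fun e =>
      decide (e.1 < chevF4.nroots) && decide (twF4.π e.1 = e.2.1) && !twF4.sg e.1 && decide (twF4.e e.1 = e.2.2)) = true)
    (h2 : (collF4 2 (ordOf chevF4 certF4 [1, 1, 1, 1])).check (bL a (levF4.rep j) (levF4.rep i) d)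
      (bL' a (levF4.rep j) (levF4.rep i) d) = true)
    (h3 : (allL [a, d, levF4.rep i] fun r => lvB chevF4 levF4 j r && r != levF4.rep j) = true)
    (h4 : (lvB chevF4 levF4 i d && d != levF4.rep i) = true)
    (h5 : ∀ r ∈ [a, levF4.rep j, levF4.rep i, d], ∃ h : r < chevF4.nroots, (rs chevF4).IsPos ⟨r, h⟩) (t : K) :
    (∃ g ∈ (h.filt levOK_F4 E).F j, (h.filt levOK_F4 E).c j g = t) ∧
      ∃ g ∈ (h.filt levOK_F4 E).F i, (h.filt levOK_F4 E).c i g = t := by
  simp only [List.forall_mem_cons] at h5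
  obtain ⟨⟨a1, a2⟩, ⟨b1, b2⟩, ⟨c1, c2⟩, ⟨d1, d2⟩, -⟩ := h5
  have h7 : ∀ t u, ∃ g, f g = bW x φ a (levF4.rep j) (levF4.rep i) d t u := fun t u =>
    E.exists_U (bW_mem (a := ⟨a, a1⟩) (b := ⟨_, b1⟩) (c := ⟨_, c1⟩) (d := ⟨d, d1⟩) a2 b2 c2 d2 t u)
      (h.σ_bW hφ2 h1 h2 t u)
  obtain ⟨u', hu⟩ := h7 t 0
  obtain ⟨v', hv⟩ := h7 0 t
  have h8 := h.filt_word levOK_F4 E hj (hu.trans (h.bW_eq' h2 _ _)) (by simpa [allL_iff] using h3)
  have h9 : f v' = evS x (fun k => [t, φ t].getD k 0) [(levF4.rep i, [(1, [0])]), (d, [(1, [1, 1])])] := by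
    simp [hv, bW, h.chv.rel.zero a1, h.chv.rel.zero b1, sq]
  have h10 := h.filt_word levOK_F4 E hi h9 (by simpa [allL_iff] using h4)
  exact ⟨⟨u', h8.1, by simp [h8.2]⟩, v', h10.1, by simp [h10.2]⟩

theorem surj_F4 {i : ℕ} (hi : i < 12) (h4 : i ≠ 4) (h11 : i ≠ 11) (t : K) :
    ∃ g ∈ (h.filt levOK_F4 E).F i, (h.filt levOK_F4 E).c i g = t := by
  have h1 := class_surj h hφ2 E (j := 0) (i := 1) (a := 27) (d := 30) (by decide) (by decide) (by decide +kernel)
    (by decide +kernel) (by decide +kernel) (by decide +kernel) (by simp only [rs_isPos_iff_le]; decide +kernel) t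
  have h2 := class_surj h hφ2 E (j := 3) (i := 7) (a := 34) (d := 42) (by decide) (by decide) (by decide +kernel)
    (by decide +kernel) (by decide +kernel) (by decide +kernel) (by simp only [rs_isPos_iff_le]; decide +kernel) t
  have h3 := class_surj h hφ2 E (j := 5) (i := 10) (a := 35) (d := 46) (by decide) (by decide) (by decide +kernel)
    (by decide +kernel) (by decide +kernel) (by decide +kernel) (by simp only [rs_isPos_iff_le]; decide +kernel) t
  have h5 : ∀ i (hi : i < 12), soB chevF4 (levF4.rep i) (twF4.π (levF4.rep i)) = true →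
      ∃ g ∈ (h.filt levOK_F4 E).F i, (h.filt levOK_F4 E).c i g = t := fun i hi hs =>
    ⟨_, h.filt_Y levOK_F4 E hi (h.orbOK_F4 (r := levOK_F4.repF hi) hs) (h.iter_F4 hφ2 (levOK_F4.repF hi) t)⟩
  interval_cases i
  exacts [h1.1, h1.2, h5 _ hi (by decide +kernel), h2.1, absurd rfl h4, h3.1, h5 _ hi (by decide +kernel), h2.2,
    h5 _ hi (by decide +kernel), h5 _ hi (by decide +kernel), h3.2, absurd rfl h11]

end F4

theorem big_2F4 {K : Type} [Field K] [Fintype K] {m : ℕ} (hm : 1 ≤ m) (hK : Fintype.card K = 2 ^ (2 * m + 1)) :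
    Big 2 (Nat.card (twistedF4 K (2 ^ m))) := by
  obtain ⟨_, φ, hφ, hφ2⟩ := exists_frob_F4 hK
  let h := isTw_adj (twOK_F4 K) φ
  have E := emb_twistedF4 φ hφ hφ2
  have h1 := tw_card_N_le h E (GS_xG chevF4 K) ChevM.center_eq_bot h.hrep_F4 Finset.univ id
    (fun w _ => ⟨_, Finset.mem_univ _, fun _ => rfl⟩) (fun _ => Set.univ) fun _ _ _ _ _ => trivial
  have h2 := filt_card_ge (h.filt levOK_F4 E) (fun i => if i = 4 ∨ i = 11 then {0} else Set.univ) fun i hi t ht => by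
    split_ifs at ht with e
    · exact ⟨1, one_mem _, (Filt.c_one hi).trans ht.symm⟩
    · exact surj_F4 h hφ2 E hi (fun e' => e (Or.inl e')) (fun e' => e (Or.inr e')) t
  refine big_tw h E 2 levOK_F4 h1 h2 ?_
  have h3 : 8 ≤ Nat.card K := by
    rw [Nat.card_eq_fintype_card, hK]
    exact Nat.pow_le_pow_right two_pos (show 3 ≤ _ by omega)
  rw [Finset.prod_const, Set.ncard_univ, Finset.card_univ, Finset.card_univ, Fintype.card_fun, Fintype.card_fin,
    Fintype.card_fin, show (h.filt levOK_F4 E).m = 12 from rfl, show chevF4.nroots = 48 from rfl]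
  simp only [Finset.prod_range_succ, Finset.range_zero, Finset.prod_empty]
  norm_num only [if_true, if_false, or_self, true_or, or_true, Set.ncard_univ, Set.ncard_singleton]
  calc _ = 2304 ^ 3 * Nat.card K ^ 6 := by ring
    _ < 8 ^ 14 * Nat.card K ^ 6 := Nat.mul_lt_mul_of_pos_right (by decide) (by positivity)
    _ ≤ Nat.card K ^ 14 * Nat.card K ^ 6 := by gcongr
    _ = _ := by ring

theorem big_2G2 {K : Type} [Field K] [Fintype K] {m : ℕ} (hK : Fintype.card K = 3 ^ (2 * m + 1)) :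
    Big 3 (Nat.card (twistedG2 K (3 ^ m))) := by
  rw [card_twistedG2 hK]
  obtain ⟨q, hq⟩ : ∃ q, 3 ^ (2 * m + 1) = q + 1 := Nat.exists_eq_succ_of_ne_zero (by positivity)
  refine big_of_lt ⟨_, rfl⟩ (by positivity) (N := 3) (D := 7) (Dvd.intro _ (mul_assoc _ _ _).symm) ?_ (by decide)
  rw [hq, Nat.add_sub_cancel]
  calc _ < (q + 1) ^ 3 * (q * ((q + 1) ^ 3 + 1)) + (q + 1) ^ 3 * (q ^ 3 + 3 * q ^ 2 + 2 * q + 1) := by
        rw [mul_assoc]; exact lt_add_of_pos_right _ (by positivity)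
    _ = _ := by ring

end Cfsg.Agent.OrdB
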